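import Cfsg.Agent.Lib.BrauerPairs.Residue
import Mathlib.RingTheory.RootsOfUnity.Complex

/-!
# Lifting homomorphisms of finite groups from the residue field

`exists_lift_hom`: a homomorphism of a finite group to `(AlgInt ⧸ M)ˣ` is the reduction of a
homomorphism to `ℂˣ` with the same kernel containing relations.
-/

set_option autoImplicit false

namespace Cfsg.Agent.CosetScalar

open Cfsg Cfsg.Agent.Blocks Cfsg.Agent.BrauerPairs

variable {p : ℕ} {M : Ideal AlgInt}

theorem isIntegral_root {e : ℕ} [NeZero e] (z : rootsOfUnity e ℂ) :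
    IsIntegral ℤ (((z : ℂˣ) : ℂ)) := by
  refine IsIntegral.of_pow (NeZero.pos e) ?_
  rw [← Units.val_pow_eq_pow_val, (mem_rootsOfUnity e _).1 z.2, Units.val_one]
  exact isIntegral_one

/-- Reduction of roots of unity. -/
noncomputable def redRoot (hM : IsPModular p M) (e : ℕ) [NeZero e] :
    rootsOfUnity e ℂ →* (Res M)ˣ :=
  MonoidHom.toHomUnits
    { toFun := fun z => res M (((z : ℂˣ) : ℂ))
      map_one' := by simp [res_one hM]
      map_mul' := fun a b => by
        rw [Subgroup.coe_mul, Units.val_mul, res_mul hM (memR_of_isIntegral hM (isIntegral_root a))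
          (memR_of_isIntegral hM (isIntegral_root b))] }

theorem redRoot_apply (hM : IsPModular p M) (e : ℕ) [NeZero e] (z : rootsOfUnity e ℂ) :
    ((redRoot hM e z : (Res M)ˣ) : Res M) = res M (((z : ℂˣ) : ℂ)) := rfl

theorem redRoot_injective (hM : IsPModular p M) (e : ℕ) [NeZero e] (he : ¬ p ∣ e) :
    Function.Injective (redRoot hM e) := by
  rw [injective_iff_map_eq_one]
  intro z hz
  by_contra hne
  set ζ : ℂ := ((z : ℂˣ) : ℂ) with hζ
  have hζ1 : ζ ≠ 1 := fun h => hne (Subtype.ext (Units.ext h))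
  have hζe : ζ ^ e = 1 := by
    rw [hζ, ← Units.val_pow_eq_pow_val, (mem_rootsOfUnity e _).1 z.2, Units.val_one]
  have hsum : ∑ i ∈ Finset.range e, ζ ^ i = 0 := by
    have h := geom_sum_mul ζ e
    rw [hζe, sub_self] at h
    exact (mul_eq_zero.1 h).resolve_right (sub_ne_zero.2 hζ1)
  have hR : ∀ i, MemLocalRing M (ζ ^ i) := fun i =>
    memR_pow hM (memR_of_isIntegral hM (isIntegral_root z)) i
  have h1 : res M ζ = 1 := by
    rw [← redRoot_apply hM e z, hz, Units.val_one]
  have hpow : ∀ i, res M (ζ ^ i) = 1 := by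
    intro i
    induction i with
    | zero => rw [pow_zero, res_one hM]
    | succ i ih =>
      rw [pow_succ, res_mul hM (hR i) (memR_of_isIntegral hM (isIntegral_root z)), ih, h1, mul_one]
  have h2 := congrArg (res M) hsum
  rw [res_sum hM _ fun i _ => hR i, res_zero hM, Finset.sum_congr rfl fun i _ => hpow i,
    Finset.sum_const, Finset.card_range, nsmul_eq_mul, mul_one] at h2
  have := res_charP hM
  exact he ((CharP.cast_eq_zero_iff (Res M) p e).1 h2)

/-- A homomorphism to the units of the residue field lifts. -/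
theorem exists_lift_hom [hp : Fact p.Prime] (hM : IsPModular p M) {C : Type*} [Group C] [Finite C]
    (μ : C →* (Res M)ˣ) :
    ∃ ν : C →* ℂˣ, ∀ c, MemLocalRing M ((ν c : ℂˣ) : ℂ) ∧
      res M ((ν c : ℂˣ) : ℂ) = ((μ c : (Res M)ˣ) : Res M) ∧ (μ c = 1 → ν c = 1) := by
  classical
  have := res_charP hM
  have := res_isDomain hM
  set e : ℕ := Nat.card C / p ^ (Nat.card C).factorization p with he
  have he0 : 0 < e := Nat.ordCompl_pos p Nat.card_pos.ne'
  have : NeZero e := ⟨he0.ne'⟩
  have hpe : ¬ p ∣ e := Nat.not_dvd_ordCompl hp.out Nat.card_pos.ne'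
  have hmem : ∀ c, μ c ∈ rootsOfUnity e (Res M) := by
    intro c
    rw [mem_rootsOfUnity]
    apply Units.ext
    rw [Units.val_pow_eq_pow_val, Units.val_one]
    have h1 : ((μ c : (Res M)ˣ) : Res M) ^ Nat.card C = 1 := by
      rw [← Units.val_pow_eq_pow_val, ← map_pow, pow_card_eq_one', map_one, Units.val_one]
    rw [← Nat.ordProj_mul_ordCompl_eq_self (Nat.card C) p, ← he, mul_comm, pow_mul] at h1
    set w := ((μ c : (Res M)ˣ) : Res M) ^ e with hw
    have h2 : (w - 1) ^ p ^ (Nat.card C).factorization p = 0 := by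
      rw [sub_pow_char_pow, one_pow, h1, sub_self]
    exact sub_eq_zero.1 (pow_eq_zero_iff (pow_ne_zero _ hp.out.ne_zero) |>.1 h2)
  set f := redRoot hM e with hf
  have hinj := redRoot_injective hM e hpe
  have hrange : f.range = rootsOfUnity e (Res M) := by
    have hle : f.range ≤ rootsOfUnity e (Res M) := by
      rintro _ ⟨z, rfl⟩
      rw [mem_rootsOfUnity, ← map_pow, show z ^ e = 1 from
        Subtype.ext (by rw [SubmonoidClass.coe_pow]; exact (mem_rootsOfUnity e _).1 z.2), map_one]
    refine Subgroup.eq_of_le_of_card_ge hle ?_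
    rw [← Nat.card_congr (MonoidHom.ofInjective hinj).toEquiv, Complex.card_rootsOfUnity]
    exact card_rootsOfUnity _ _
  let E : rootsOfUnity e ℂ ≃* rootsOfUnity e (Res M) :=
    (MonoidHom.ofInjective hinj).trans (MulEquiv.subgroupCongr hrange)
  let ν : C →* rootsOfUnity e ℂ := E.symm.toMonoidHom.comp (μ.codRestrict _ hmem)
  refine ⟨(rootsOfUnity e ℂ).subtype.comp ν, fun c => ⟨?_, ?_, ?_⟩⟩
  · exact memR_of_isIntegral hM (isIntegral_root (ν c))
  · show res M ((((ν c : rootsOfUnity e ℂ) : ℂˣ)) : ℂ) = _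
    rw [← redRoot_apply hM e (ν c)]
    have h := congrArg (fun u : rootsOfUnity e (Res M) => ((u : (Res M)ˣ) : Res M))
      (E.apply_symm_apply (μ.codRestrict _ hmem c))
    exact h
  · intro hc
    have hv : ν c = 1 := by
      show E.symm (μ.codRestrict _ hmem c) = 1
      rw [show μ.codRestrict _ hmem c = 1 from Subtype.ext hc, map_one]
    show ((rootsOfUnity e ℂ).subtype (ν c)) = 1
    rw [hv, map_one]

end Cfsg.Agent.CosetScalar
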