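import Cfsg.Agent.Lib.CosetScalar.Orbit
import Cfsg.Agent.Lib.CosetScalar.Teichmuller
import Cfsg.Agent.Lib.Char.Inner
import Cfsg.Agent.Lib.Char.Linear

/-!
# Principal block extensions when `G = N C(P)`

`exists_twist`: an extension of a principal block character of `N` has a linear twist all whose
orbit scalars are congruent to the orbit lengths.
`classSum_congr`: then sums over `N`-stable sets are congruent to their cardinalities.
-/

set_option autoImplicit false

namespace Cfsg.Agent.CosetScalar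

open Cfsg Cfsg.Agent.Blocks Cfsg.Agent.BrauerPairs

variable {G : Type*} [Group G] [Fintype G] (N : Subgroup G) [hN : N.Normal] [Fintype N] {n : ℕ}
  {p : ℕ} [hp : Fact p.Prime] {M : Ideal AlgInt}

omit hN in
theorem not_dvd_card_orb (P : Sylow p N) {c : G}
    (hc : c ∈ Subgroup.centralizer ((((P : Subgroup N).map N.subtype : Subgroup G)) : Set G)) :
    ¬ p ∣ (orb N c).card := by
  classical
  letI : MulAction N G :=
    { smul := fun m x => (m : G) * x * (m : G)⁻¹
      one_smul := fun x => by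
        show ((1 : N) : G) * x * ((1 : N) : G)⁻¹ = x
        simp
      mul_smul := fun a b x => by
        show ((a * b : N) : G) * x * ((a * b : N) : G)⁻¹ =
          (a : G) * ((b : G) * x * (b : G)⁻¹) * (a : G)⁻¹
        simp [mul_assoc] }
  have hle : (P : Subgroup N) ≤ MulAction.stabilizer N c := fun u hu => by
    rw [MulAction.mem_stabilizer_iff]
    show (u : G) * c * (u : G)⁻¹ = c
    rw [Subgroup.mem_centralizer_iff.1 hc (u : G) ⟨u, hu, rfl⟩, mul_inv_cancel_right]
  have hcard : (orb N c).card = (MulAction.stabilizer N c).index := by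
    rw [MulAction.index_stabilizer, ← Set.ncard_coe_finset]
    congr 1
    ext y
    simp only [orb, Finset.coe_image, Finset.coe_univ, Set.image_univ, MulAction.mem_orbit_iff,
      Set.mem_range]
    rfl
  rw [hcard]
  exact fun h => P.not_dvd_index (h.trans (Subgroup.index_dvd_of_le hle))

variable (ρ : Representation ℂ G (Fin n → ℂ)) [(resN N ρ).IsIrreducible] {θ : IrrCharacter N}

omit hp in
theorem sig_orbInd_eq (x : G) :
    sig ρ (orbInd N x) = ((orb N x).card : ℂ) * ρ.character x / ρ.character 1 := by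
  classical
  rw [sig, sum_orbInd_mul, Finset.sum_congr rfl (g := fun _ => ρ.character x) fun y hy => ?_,
    Finset.sum_const, nsmul_eq_mul]
  obtain ⟨k, -, rfl⟩ := Finset.mem_image.1 hy
  exact Representation.char_conj ρ x (k : G)

/-- The twist. -/
theorem exists_twist (hM : IsPModular p M) (hθ : ∀ m : N, (θ : N → ℂ) m = ρ.character (m : G))
    (hprin : SameBlock M (fun _ : N => (1 : ℂ)) (θ : N → ℂ)) (P : Sylow p N)
    (hcov : N ⊔ Subgroup.centralizer
      ((((P : Subgroup N).map N.subtype : Subgroup G)) : Set G) = ⊤) :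
    ∃ l : G →* ℂˣ, (∀ m : N, l (m : G) = 1) ∧
      ∀ x : G, MemLocalIdeal M
        (((orb N x).card : ℂ) * (ρ.character x * ((l x : ℂˣ) : ℂ)) / ρ.character 1 -
          ((orb N x).card : ℂ)) := by
  classical
  have := res_charP hM
  have := res_isDomain hM
  set C := Subgroup.centralizer ((((P : Subgroup N).map N.subtype : Subgroup G)) : Set G) with hC
  have hψ1 : ρ.character 1 ≠ 0 := by
    have := hθ 1
    rw [OneMemClass.coe_one] at this
    rw [← this]
    exact irr_one_ne_zero θ
  have hone : ∀ x : G, (∑ y, orbInd N x y) = ((orb N x).card : ℂ) := fun x => by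
    simpa using sum_orbInd_mul N x fun _ => (1 : ℂ)
  have hindR : ∀ x y : G, MemLocalRing M (orbInd N x y) := fun x y => by
    unfold orbInd
    split_ifs
    · exact memR_one hM
    · exact memR_zero hM
  have hsR : ∀ x : G, MemLocalRing M (sig ρ (orbInd N x)) := fun x => by
    refine memR_of_isIntegral hM (isIntegral_sig N ρ (nInv_orbInd N x) fun y => ?_)
    unfold orbInd
    split_ifs
    · exact isIntegral_one
    · exact isIntegral_zero
  have hcong : ∀ {F : G → ℂ} (c : G) (a : ℕ), NInv N F → (∀ y, MemLocalRing M (F y)) →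
      (∑ y, F y) = (a : ℂ) → (∀ y, F y ≠ 0 → y * c ∈ N) → MemLocalRing M (sig ρ F) →
      res M (sig ρ F) * res M (sig ρ (orbInd N c)) = (a : Res M) * ((orb N c).card : Res M) := by
    intro F c a hF hFR hsum hsupp hR
    have h := sig_mul_orb N ρ hM hθ hprin hF hFR hsupp
    rw [hsum] at h
    rw [← res_mul hM hR (hsR c), (res_eq_iff hM (memR_mul hM hR (hsR c))
      (memR_mul hM (memR_natCast hM _) (memR_natCast hM _))).2 h,
      res_mul hM (memR_natCast hM _) (memR_natCast hM _), res_natCast hM, res_natCast hM]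
  have hsupp1 : ∀ x c : G, x * c ∈ N → ∀ y, orbInd N x y ≠ 0 → y * c ∈ N := by
    intro x c hxc y hy
    have hy' : y ∈ orb N x := by
      by_contra h'
      exact hy (if_neg h')
    have h1 : y * c = x * (x⁻¹ * y) * x⁻¹ * (x * c) := by group
    rw [h1]
    exact N.mul_mem (hN.conj_mem _ (inv_mul_mem_of_mem_orb N hy') x) hxc
  have hkey : ∀ x c : G, x * c ∈ N →
      res M (sig ρ (orbInd N x)) * res M (sig ρ (orbInd N c)) =
        ((orb N x).card : Res M) * ((orb N c).card : Res M) := fun x c hxc =>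
    hcong c _ (nInv_orbInd N x) (hindR x) (hone x) (hsupp1 x c hxc) (hsR x)
  have hm0 : ∀ c ∈ C, ((orb N c).card : Res M) ≠ 0 := fun c hc h =>
    not_dvd_card_orb N P hc ((CharP.cast_eq_zero_iff (Res M) p _).1 h)
  choose iv hiv using fun a : {a : Res M // a ≠ 0} => res_exists_inv hM a.2
  let r : C → Res M := fun c => res M (sig ρ (orbInd N (c : G))) * iv ⟨_, hm0 c c.2⟩
  have hr : ∀ c : C, res M (sig ρ (orbInd N (c : G))) = r c * ((orb N (c : G)).card : Res M) := by
    intro c
    rw [mul_assoc, mul_comm (iv _), hiv ⟨_, hm0 c c.2⟩, mul_one]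
  have hrinv : ∀ c d : C, (c : G) * d ∈ N → r c * r d = 1 := by
    intro c d h
    have h1 := hkey _ _ h
    rw [hr, hr, show r c * ((orb N (c : G)).card : Res M) * (r d * ((orb N (d : G)).card : Res M)) =
      r c * r d * (((orb N (c : G)).card : Res M) * ((orb N (d : G)).card : Res M)) by ring] at h1
    exact (mul_eq_right₀ (mul_ne_zero (hm0 c c.2) (hm0 d d.2))).1 h1
  have hr1 : r 1 = 1 := by
    have horb : orb N ((1 : C) : G) = {1} := by
      ext y
      simp [orb, eq_comm]
    have h1 := hr 1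
    rw [sig_orbInd_eq, horb, Finset.card_singleton, Nat.cast_one, one_mul, OneMemClass.coe_one,
      div_self hψ1, res_one hM, Nat.cast_one, mul_one] at h1
    exact h1.symm
  have hrN : ∀ c : C, (c : G) ∈ N → r c = 1 := by
    intro c hc
    have h1 := hrinv c 1 (by simpa using hc)
    rwa [hr1, mul_one] at h1
  have hrmul : ∀ c d : C, r (c * d) = r c * r d := by
    intro c d
    set e : C := (c * d)⁻¹ with he
    have hsum : (∑ y, pairFun N (c : G) d y) =
        (((orb N (c : G)).card * (orb N (d : G)).card : ℕ) : ℂ) := by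
      have h := sum_pairFun_mul N (c : G) d fun _ => (1 : ℂ)
      simp only [mul_one] at h
      rw [h, Finset.sum_congr rfl fun v _ => hone (c : G), Finset.sum_const, nsmul_eq_mul,
        Nat.cast_mul, mul_comm]
    have hsupp : ∀ y, pairFun N (c : G) d y ≠ 0 → y * e ∈ N := by
      intro y hy
      obtain ⟨v, hv, hv'⟩ := Finset.exists_ne_zero_of_sum_ne_zero hy
      have h1 : y * v⁻¹ * c⁻¹ ∈ N := hsupp1 (c : G) (c : G)⁻¹ (by simp) _ hv'
      have h2 : (c : G) * (v * (d : G)⁻¹) * (c : G)⁻¹ ∈ N := by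
        refine hN.conj_mem _ ?_ c
        have h3 := hN.conj_mem _ (inv_mul_mem_of_mem_orb N hv) (d : G)
        simpa [mul_assoc] using h3
      have h4 : y * (e : G) = y * v⁻¹ * (c : G)⁻¹ * ((c : G) * (v * (d : G)⁻¹) * (c : G)⁻¹) := by
        rw [he, Subgroup.coe_inv, Subgroup.coe_mul]
        group
      rw [h4]
      exact N.mul_mem h1 h2
    have hR : MemLocalRing M (sig ρ (pairFun N (c : G) d)) := by
      rw [sig_pairFun N ρ hψ1]
      exact memR_mul hM (hsR _) (hsR _)
    have h := hcong (e : G) _ (nInv_pairFun N (c : G) d)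
      (fun y => memR_sum hM _ fun v _ => hindR _ _) hsum hsupp hR
    rw [sig_pairFun N ρ hψ1, res_mul hM (hsR _) (hsR _), hr, hr, hr, Nat.cast_mul,
      show r c * ((orb N (c : G)).card : Res M) * (r d * ((orb N (d : G)).card : Res M)) *
        (r e * ((orb N (e : G)).card : Res M)) = r c * r d * r e *
          (((orb N (c : G)).card : Res M) * ((orb N (d : G)).card : Res M) *
            ((orb N (e : G)).card : Res M)) by ring] at h
    have h1 : r c * r d * r e = 1 := (mul_eq_right₀
      (mul_ne_zero (mul_ne_zero (hm0 c c.2) (hm0 d d.2)) (hm0 e e.2))).1 h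
    have h2 := hrinv (c * d) e (by simp [he])
    calc r (c * d) = r (c * d) * (r c * r d * r e) := by rw [h1, mul_one]
      _ = r c * r d * (r (c * d) * r e) := by ring
      _ = r c * r d := by rw [h2, mul_one]
  let μ₀ : C →* Res M := { toFun := r, map_one' := hr1, map_mul' := hrmul }
  obtain ⟨ν, hν⟩ := exists_lift_hom hM μ₀.toHomUnits
  -- transport to `G ⧸ N`
  let π : C →* G ⧸ N := (QuotientGroup.mk' N).comp C.subtype
  have hπ : Function.Surjective π := by
    intro q
    obtain ⟨g, rfl⟩ := QuotientGroup.mk'_surjective N q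
    have hg : g ∈ N ⊔ C := by rw [hcov]; exact Subgroup.mem_top g
    rw [← SetLike.mem_coe, Subgroup.normal_mul] at hg
    obtain ⟨a, ha, b, hb, rfl⟩ := hg
    refine ⟨⟨b, hb⟩, ?_⟩
    show QuotientGroup.mk' N b = QuotientGroup.mk' N (a * b)
    rw [map_mul, QuotientGroup.mk'_apply N a, (QuotientGroup.eq_one_iff a).2 ha, one_mul]
  have hker : π.ker ≤ ν.ker := fun c hc => by
    refine (hν c).2.2 (Units.ext ?_)
    exact hrN c ((QuotientGroup.eq_one_iff (c : G)).1 hc)
  let l₀ : G →* ℂˣ := (π.liftOfSurjective hπ ⟨ν, hker⟩).comp (QuotientGroup.mk' N)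
  refine ⟨l₀⁻¹, fun m => ?_, fun x => ?_⟩
  · show (l₀ (m : G))⁻¹ = 1
    rw [inv_eq_one, show l₀ (m : G) = (π.liftOfSurjective hπ ⟨ν, hker⟩) (QuotientGroup.mk' N m)
      from rfl, QuotientGroup.mk'_apply, (QuotientGroup.eq_one_iff _).2 m.2, map_one]
  obtain ⟨c, hc⟩ := hπ (QuotientGroup.mk' N x)
  have hl : l₀ x = ν c := by
    show (π.liftOfSurjective hπ ⟨ν, hker⟩) (QuotientGroup.mk' N x) = ν c
    rw [← hc]
    exact MonoidHom.liftOfRightInverse_comp_apply π _ _ ⟨ν, hker⟩ c
  have hxc : x * ((c⁻¹ : C) : G) ∈ N := by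
    rw [← QuotientGroup.eq_one_iff, QuotientGroup.mk_mul, Subgroup.coe_inv, QuotientGroup.mk_inv]
    show QuotientGroup.mk' N x * (QuotientGroup.mk' N (c : G))⁻¹ = 1
    rw [show QuotientGroup.mk' N (c : G) = π c from rfl, hc, mul_inv_cancel]
  have hsx : res M (sig ρ (orbInd N x)) = r c * ((orb N x).card : Res M) := by
    have h := hkey x _ hxc
    rw [hr c⁻¹, ← mul_assoc] at h
    have h1 := mul_right_cancel₀ (hm0 _ (c⁻¹).2) h
    have h2 := hrinv c c⁻¹ (by simp)
    calc res M (sig ρ (orbInd N x)) = res M (sig ρ (orbInd N x)) * r c⁻¹ * r c := by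
          rw [mul_assoc, mul_comm (r c⁻¹), h2, mul_one]
      _ = _ := by rw [h1, mul_comm]
  obtain ⟨hνR, hνres, -⟩ := hν c
  obtain ⟨hνR', hνres', -⟩ := hν c⁻¹
  have hν2 : res M ((ν c⁻¹ : ℂˣ) : ℂ) = r c⁻¹ := hνres'
  have heq : ((orb N x).card : ℂ) * (ρ.character x * ((l₀⁻¹ x : ℂˣ) : ℂ)) / ρ.character 1 =
      sig ρ (orbInd N x) * ((ν c⁻¹ : ℂˣ) : ℂ) := by
    rw [sig_orbInd_eq, MonoidHom.inv_apply, hl, map_inv]
    ring
  rw [heq, ← res_eq_iff hM (memR_mul hM (hsR x) hνR') (memR_natCast hM _),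
    res_mul hM (hsR x) hνR', hν2, hsx, res_natCast hM, mul_right_comm, hrinv c c⁻¹ (by simp), one_mul]

omit hp [(resN N ρ).IsIrreducible] in
/-- Sums over `N`-stable sets. -/
theorem classSum_congr (hM : IsPModular p M) {χ : G → ℂ}
    (hcl : ∀ (m : N) (x : G), χ ((m : G) * x * (m : G)⁻¹) = χ x)
    (hχ : ∀ x : G, MemLocalIdeal M
      (((orb N x).card : ℂ) * χ x / χ 1 - ((orb N x).card : ℂ))) (K : Finset G)
    (hK : ∀ (m : N), ∀ x ∈ K, (m : G) * x * (m : G)⁻¹ ∈ K) :
    MemLocalIdeal M ((∑ y ∈ K, χ y / χ 1) - (K.card : ℂ)) := by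
  classical
  rw [Finset.card_eq_sum_ones, Nat.cast_sum, ← Finset.sum_sub_distrib,
    ← Finset.sum_fiberwise_of_maps_to (g := orb N) (t := K.image (orb N))
      (fun y hy => Finset.mem_image_of_mem _ hy)]
  refine memI_sum hM _ fun o ho => ?_
  obtain ⟨x, hx, rfl⟩ := Finset.mem_image.1 ho
  have hfib : K.filter (fun y => orb N y = orb N x) = orb N x := by
    ext y
    simp only [Finset.mem_filter]
    constructor
    · rintro ⟨-, h⟩
      rw [← h]
      exact self_mem_orb N y
    · intro hy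
      refine ⟨?_, orb_eq_of_mem N hy⟩
      obtain ⟨k, -, rfl⟩ := Finset.mem_image.1 hy
      exact hK k x hx
  rw [hfib, Finset.sum_congr rfl (g := fun _ => χ x / χ 1 - 1) fun y hy => ?_, Finset.sum_const,
    nsmul_eq_mul, mul_sub, mul_one, ← mul_div_assoc]
  · exact hχ x
  · obtain ⟨k, -, rfl⟩ := Finset.mem_image.1 hy
    simp [hcl k x]

end Cfsg.Agent.CosetScalar
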