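import Cfsg.Agent.Lib.BrauerPairs.Basic
import Cfsg.Agent.Lib.BrauerPairs.Residue
import Cfsg.Agent.Lib.CharApp.Schur
import Cfsg.Agent.Lib.Char.Orth
import Cfsg.Agent.Lib.Char.Integral

/-!
# Scalars of orbit sums on a representation irreducible on a normal subgroup

For `N ⊴ G`, a representation `ρ` of `G` irreducible on `N`, the sums `∑ F x • ρ x` of
`N`-invariant functions `F` are scalars `sig ρ F`.
`sig_mul_orb`: if the restriction to `N` lies in the principal block and `F` lives on the coset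
inverse to that of `c`, then `sig F * sig (orbit of c) ≡ (∑ F) * |orbit of c|`.
-/

set_option autoImplicit false

namespace Cfsg.Agent.CosetScalar

open Cfsg Cfsg.Agent.Blocks

variable {G : Type*} [Group G] [Fintype G] (N : Subgroup G) [hN : N.Normal] [Fintype N] {n : ℕ}
  (ρ : Representation ℂ G (Fin n → ℂ))

open scoped Classical in
/-- The `N`-orbit of `x`. -/
noncomputable def orb (x : G) : Finset G :=
  Finset.univ.image fun m : N => (m : G) * x * (m : G)⁻¹

omit hN in
theorem self_mem_orb (x : G) : x ∈ orb N x := by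
  classical
  exact Finset.mem_image.2 ⟨1, Finset.mem_univ _, by simp⟩

omit hN in
theorem mem_orb_conj {x y : G} (h : y ∈ orb N x) (m : N) : (m : G) * y * (m : G)⁻¹ ∈ orb N x := by
  classical
  obtain ⟨k, -, rfl⟩ := Finset.mem_image.1 h
  exact Finset.mem_image.2 ⟨m * k, Finset.mem_univ _, by simp [mul_assoc]⟩

omit hN in
theorem orb_eq_of_mem {x y : G} (h : y ∈ orb N x) : orb N y = orb N x := by
  classical
  obtain ⟨k, -, rfl⟩ := Finset.mem_image.1 h
  ext z
  constructor
  · intro hz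
    obtain ⟨m, -, rfl⟩ := Finset.mem_image.1 hz
    exact Finset.mem_image.2 ⟨m * k, Finset.mem_univ _, by simp [mul_assoc]⟩
  · intro hz
    obtain ⟨m, -, rfl⟩ := Finset.mem_image.1 hz
    exact Finset.mem_image.2 ⟨m * k⁻¹, Finset.mem_univ _, by simp [mul_assoc]⟩

theorem inv_mul_mem_of_mem_orb {x y : G} (h : y ∈ orb N x) : x⁻¹ * y ∈ N := by
  classical
  obtain ⟨k, -, rfl⟩ := Finset.mem_image.1 h
  rw [show x⁻¹ * ((k : G) * x * (k : G)⁻¹) = x⁻¹ * (k : G) * x * (k : G)⁻¹ by group]
  exact N.mul_mem (by simpa using hN.conj_mem _ k.2 x⁻¹) (inv_mem k.2)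

/-- `F` is invariant under conjugation by `N`. -/
def NInv (F : G → ℂ) : Prop := ∀ (m : N) (x : G), F ((m : G) * x * (m : G)⁻¹) = F x

open scoped Classical in
/-- The indicator of an orbit. -/
noncomputable def orbInd (x : G) : G → ℂ := fun y => if y ∈ orb N x then 1 else 0

omit hN in
theorem nInv_orbInd (x : G) : NInv N (orbInd N x) := by
  intro m y
  have : (m : G) * y * (m : G)⁻¹ ∈ orb N x ↔ y ∈ orb N x :=
    ⟨fun h => by simpa [mul_assoc] using mem_orb_conj N h m⁻¹, fun h => mem_orb_conj N h m⟩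
  simp only [orbInd]
  by_cases h : y ∈ orb N x
  · rw [if_pos h, if_pos (this.2 h)]
  · rw [if_neg h, if_neg fun h' => h (this.1 h')]

omit hN in
theorem sum_orbInd_mul (x : G) (f : G → ℂ) : ∑ y, orbInd N x y * f y = ∑ y ∈ orb N x, f y := by
  classical
  simp [orbInd, ite_mul, Finset.sum_ite_mem]

/-- The restriction to `N`. -/
abbrev resN : Representation ℂ N (Fin n → ℂ) := ρ.comp N.subtype

/-- The scalar of `∑ F x • ρ x`. -/
noncomputable def sig (F : G → ℂ) : ℂ := (∑ x, F x * ρ.character x) / ρ.character 1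

theorem op_eq_sig [hirr : (resN N ρ).IsIrreducible] {F : G → ℂ} (hF : NInv N F) :
    ∑ x, F x • ρ x = sig ρ F • (1 : Module.End ℂ (Fin n → ℂ)) := by
  have h := CharApp.eq_trace_div_smul (resN N ρ) (∑ x, F x • ρ x) (fun m => by
    show (∑ x, F x • ρ x) * ρ (m : G) = ρ (m : G) * ∑ x, F x • ρ x
    rw [Finset.sum_mul, Finset.mul_sum]
    refine Fintype.sum_equiv (MulAut.conj ((m⁻¹ : N) : G)).toEquiv _ _ fun x => ?_
    show F x • ρ x * ρ (m : G) =
      ρ (m : G) * F (MulAut.conj ((m⁻¹ : N) : G) x) • ρ (MulAut.conj ((m⁻¹ : N) : G) x)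
    rw [MulAut.conj_apply, hF m⁻¹ x, smul_mul_assoc, mul_smul_comm, ← map_mul, ← map_mul]
    congr 2
    simp [mul_assoc])
  rw [h]
  congr 1
  rw [sig, Representation.char_one, map_sum]
  congr 1
  exact Finset.sum_congr rfl fun x _ => by rw [map_smul]; rfl

/-- The scalars of integral functions are integral. -/
theorem isIntegral_sig [(resN N ρ).IsIrreducible] {F : G → ℂ} (hF : NInv N F)
    (hi : ∀ x, IsIntegral ℤ (F x)) : IsIntegral ℤ (sig ρ F) := by
  have := Char.nontrivial_of_isIrreducible (resN N ρ)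
  let R := integralClosure ℤ ℂ
  let S : Subalgebra R (Module.End ℂ (Fin n → ℂ)) := Algebra.adjoin R (Set.range ρ)
  have hspan : S.toSubmodule = Submodule.span R (Set.range ρ) := by
    rw [Algebra.adjoin_eq_span]
    congr 1
    rw [← MonoidHom.coe_mrange, Submonoid.closure_eq]
  have hS : S.toSubmodule.FG := by
    rw [hspan]; exact Submodule.fg_span (Set.finite_range _)
  have hmem : ∑ x, F x • ρ x ∈ S := by
    refine Subalgebra.sum_mem _ fun g _ => ?_
    have hg : ρ g ∈ S := Algebra.subset_adjoin ⟨g, rfl⟩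
    exact S.smul_mem hg (⟨F g, hi g⟩ : R)
  have hint : IsIntegral R (algebraMap ℂ (Module.End ℂ (Fin n → ℂ)) (sig ρ F)) := by
    rw [Algebra.algebraMap_eq_smul_one, ← op_eq_sig N ρ hF]
    exact IsIntegral.of_mem_of_fg S hS _ hmem
  exact isIntegral_trans _
    ((isIntegral_algebraMap_iff (algebraMap ℂ (Module.End ℂ (Fin n → ℂ))).injective).1 hint)

/-- The product of two scalars. -/
theorem sig_mul_sig [(resN N ρ).IsIrreducible] (h1 : ρ.character 1 ≠ 0) {F : G → ℂ} (hF : NInv N F)
    (c : G) : sig ρ F * sig ρ (orbInd N c) =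
      (∑ v ∈ orb N c, ∑ x, F x * ρ.character (x * v)) / ρ.character 1 := by
  classical
  have h := congrArg (LinearMap.trace ℂ (Fin n → ℂ))
    (congrArg₂ (· * ·) (op_eq_sig N ρ hF) (op_eq_sig N ρ (nInv_orbInd N c)))
  simp only [smul_mul_assoc, one_mul, map_smul, LinearMap.trace_one, smul_eq_mul] at h
  rw [Representation.char_one] at h1 ⊢
  rw [eq_div_iff h1, mul_assoc, ← h, Finset.sum_mul, map_sum, Finset.sum_comm]
  refine Finset.sum_congr rfl fun x _ => ?_
  rw [Finset.mul_sum, map_sum, Finset.sum_congr rfl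
    (g := fun v => orbInd N c v * (F x * ρ.character (x * v))) fun v _ => by
      rw [smul_mul_smul_comm, ← map_mul, map_smul, smul_eq_mul]
      show _ * ρ.character (x * v) = _
      ring, sum_orbInd_mul]

omit hN in
/-- The function counting factorisations through two orbits. -/
noncomputable def pairFun (c d : G) : G → ℂ := fun y => ∑ v ∈ orb N d, orbInd N c (y * v⁻¹)

omit hN in
theorem nInv_pairFun (c d : G) : NInv N (pairFun N c d) := by
  intro k y
  refine Finset.sum_bij' (fun v _ => (k : G)⁻¹ * v * k) (fun v _ => (k : G) * v * (k : G)⁻¹)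
    (fun v hv => by simpa using mem_orb_conj N hv k⁻¹) (fun v hv => mem_orb_conj N hv k)
    (fun v _ => by group) (fun v _ => by group) fun v _ => ?_
  rw [← nInv_orbInd N c k (y * ((k : G)⁻¹ * v * k)⁻¹)]
  congr 1
  simp [mul_assoc]

omit hN in
theorem sum_pairFun_mul (c d : G) (f : G → ℂ) :
    ∑ y, pairFun N c d y * f y = ∑ v ∈ orb N d, ∑ x, orbInd N c x * f (x * v) := by
  simp only [pairFun, Finset.sum_mul]
  rw [Finset.sum_comm]
  refine Finset.sum_congr rfl fun v _ => ?_
  refine Fintype.sum_equiv (Equiv.mulRight v⁻¹) _ _ fun y => ?_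
  rw [Equiv.coe_mulRight, inv_mul_cancel_right]

theorem sig_pairFun [(resN N ρ).IsIrreducible] (h1 : ρ.character 1 ≠ 0) (c d : G) :
    sig ρ (pairFun N c d) = sig ρ (orbInd N c) * sig ρ (orbInd N d) := by
  rw [sig_mul_sig N ρ h1 (nInv_orbInd N c) d, sig, sum_pairFun_mul]

variable {p : ℕ} {M : Ideal AlgInt}

/-- The basic congruence. -/
theorem sig_mul_orb [(resN N ρ).IsIrreducible] (hM : IsPModular p M) {θ : IrrCharacter N}
    (hθ : ∀ m : N, (θ : N → ℂ) m = ρ.character (m : G))
    (hprin : SameBlock M (fun _ : N => (1 : ℂ)) (θ : N → ℂ)) {F : G → ℂ} (hF : NInv N F)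
    (hFR : ∀ x, MemLocalRing M (F x)) {c : G} (hsupp : ∀ x, F x ≠ 0 → x * c ∈ N) :
    MemLocalIdeal M (sig ρ F * sig ρ (orbInd N c) - (∑ x, F x) * ((orb N c).card : ℂ)) := by
  classical
  let z : N → ℂ := fun m => ∑ v ∈ orb N c, F ((m : G) * v⁻¹)
  have hz : IsClassFunction N z := by
    intro m k
    refine Finset.sum_bij' (fun v _ => (k : G)⁻¹ * v * k) (fun v _ => (k : G) * v * (k : G)⁻¹)
      (fun v hv => by simpa using mem_orb_conj N hv k⁻¹) (fun v hv => mem_orb_conj N hv k)
      (fun v _ => by group) (fun v _ => by group) fun v _ => ?_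
    rw [← hF k ((m : G) * ((k : G)⁻¹ * v * k)⁻¹)]
    congr 1
    simp [mul_assoc]
  have hzR : ∀ m, MemLocalRing M (z m) := fun m => memR_sum hM _ fun v _ => hFR _
  have hsum : ∀ f : G → ℂ, ∑ m : N, z m * f (m : G) =
      ∑ v ∈ orb N c, ∑ x, F x * f (x * v) := by
    intro f
    simp only [z, Finset.sum_mul]
    rw [Finset.sum_comm]
    refine Finset.sum_congr rfl fun v hv => ?_
    have hv' : c⁻¹ * v ∈ N := inv_mul_mem_of_mem_orb N hv
    rw [← Finset.sum_subtype (Finset.univ.filter fun y : G => y ∈ N) (fun y => by simp)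
      (fun y => F (y * v⁻¹) * f y), Finset.sum_filter]
    refine Fintype.sum_equiv (Equiv.mulRight v⁻¹) _ _ fun y => ?_
    rw [Equiv.coe_mulRight, inv_mul_cancel_right]
    split_ifs with hy
    · rfl
    · by_cases h0 : F (y * v⁻¹) = 0
      · rw [h0, zero_mul]
      · refine absurd ?_ hy
        have h1 : y * v⁻¹ * c * (c⁻¹ * v) ∈ N := N.mul_mem (hsupp _ h0) hv'
        rwa [show y * v⁻¹ * c * (c⁻¹ * v) = y by group] at h1
  have hn : ρ.character 1 ≠ 0 := by
    have := hθ 1
    rw [OneMemClass.coe_one] at this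
    rw [← this]
    exact irr_one_ne_zero θ
  have hop := sig_mul_sig N ρ hn hF c
  have h1 := BrauerPairs.sum_mul_sub_of_sameBlock hM hz (irr_class θ)
    (show IsClassFunction N fun _ : N => (1 : ℂ) from fun _ _ => rfl) hzR (sameBlock_symm hprin)
  have h2 := hsum fun y => ρ.character y
  have h3 := hsum fun _ => (1 : ℂ)
  simp only [mul_one, Finset.sum_const, nsmul_eq_mul] at h3
  simp only [mul_one, div_one] at h1
  rw [h3, ← Finset.sum_div, Finset.sum_congr rfl fun m _ => by rw [hθ m], h2, hθ 1,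
    OneMemClass.coe_one, ← hop] at h1
  rwa [mul_comm (∑ x, F x)]

end Cfsg.Agent.CosetScalar
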